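import Mathlib

/-! Injectivity of the base change of an injective module along a flat map with reduced points as fibres. -/

set_option autoImplicit false

universe u

open TensorProduct CategoryTheory

namespace H1InjBC

variable {A B : Type u} [CommRing A] [CommRing B] [Algebra A B] [Module.Flat A B]
  (I : Type u) [AddCommGroup I] [Module A I] [Module.Injective A I]

/-- A map out of an ideal of `A` into `B ⊗ I` extends to `A`. -/
theorem exists_smul_eq [IsNoetherianRing A] (p : Ideal A) (g : p →ₗ[A] B ⊗[A] I) :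
    ∃ m : B ⊗[A] I, ∀ x : p, (x : A) • m = g x := by
  obtain ⟨n, x, hx⟩ := Submodule.fg_iff_exists_fin_generating_family.1 (IsNoetherian.noetherian p)
  have hxp : ∀ k, x k ∈ p := fun k => hx ▸ Submodule.subset_span ⟨k, rfl⟩
  let π : (Fin n → A) →ₗ[A] p :=
    (Fintype.linearCombination A x).codRestrict p fun c => by
      rw [Fintype.linearCombination_apply]
      exact Submodule.sum_mem _ fun k _ => Submodule.smul_mem _ _ (hxp k)
  have hπv : ∀ c, (π c : A) = ∑ k, c k • x k := fun c => Fintype.linearCombination_apply _ _ _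
  have hπs : Function.Surjective π := fun y => by
    obtain ⟨c, hc⟩ := (Submodule.mem_span_range_iff_exists_fun A).1 (hx.ge y.2)
    exact ⟨c, Subtype.ext ((hπv c).trans hc)⟩
  obtain ⟨l, v, hv⟩ := Submodule.fg_iff_exists_fin_generating_family.1
    (IsNoetherian.noetherian (LinearMap.ker π))
  let α : I →ₗ[A] (Fin n → I) := LinearMap.pi fun k => x k • LinearMap.id
  let β : (Fin n → I) →ₗ[A] (Fin l → I) := LinearMap.pi fun j => ∑ k, v j k • LinearMap.proj k
  have hαβ : Function.Exact α β := by
    intro t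
    constructor
    · intro ht
      let T : (Fin n → A) →ₗ[A] I := Fintype.linearCombination A t
      have hker : LinearMap.ker π ≤ LinearMap.ker T := by
        rw [← hv, Submodule.span_le]
        rintro _ ⟨j, rfl⟩
        rw [SetLike.mem_coe, LinearMap.mem_ker, Fintype.linearCombination_apply]
        have := congrFun ht j
        simpa [β] using this
      let T' : p →ₗ[A] I := (LinearMap.ker π).liftQ T hker ∘ₗ (π.quotKerEquivOfSurjective hπs).symm.toLinearMap
      obtain ⟨e, he⟩ := Module.Injective.out (R := A) p.subtype Subtype.val_injective T'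
      refine ⟨e 1, funext fun k => ?_⟩
      have h1 : e (x k) = T' ⟨x k, hxp k⟩ := he ⟨x k, hxp k⟩
      have h2 : T' ⟨x k, hxp k⟩ = t k := by
        have hk : π (Pi.single k 1) = ⟨x k, hxp k⟩ := Subtype.ext (by
          rw [hπv]; simp [Pi.single_apply])
        rw [← hk]
        simp only [T', LinearMap.comp_apply, LinearEquiv.coe_coe,
          LinearMap.quotKerEquivOfSurjective_symm_apply, Submodule.liftQ_apply]
        simp [T, Fintype.linearCombination_apply_single]
      show x k • e 1 = t k
      rw [← map_smul, smul_eq_mul, mul_one, h1, h2]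
    · rintro ⟨m, rfl⟩
      funext j
      have hj : v j ∈ LinearMap.ker π := hv ▸ Submodule.subset_span ⟨j, rfl⟩
      have h0 : (∑ k, v j k • x k) = 0 := by
        rw [← hπv, LinearMap.mem_ker.1 hj]; rfl
      simp only [α, β, LinearMap.pi_apply, LinearMap.sum_apply, LinearMap.smul_apply,
        LinearMap.proj_apply, LinearMap.id_apply, Pi.zero_apply, smul_smul, ← Finset.sum_smul]
      rw [show (∑ k, v j k * x k) = 0 from h0, zero_smul]
  have hex : Function.Exact (α.lTensor B) (β.lTensor B) := Module.Flat.lTensor_exact B hαβ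
  let e : ∀ (q : ℕ), B ⊗[A] (Fin q → I) ≃ₗ[A] (Fin q → B ⊗[A] I) := fun q =>
    TensorProduct.piRight A A B fun _ : Fin q => I
  have heα : ∀ m k, e n (α.lTensor B m) k = x k • m := by
    intro m k
    induction m with
    | zero => simp
    | add a b ha hb => rw [map_add, map_add, Pi.add_apply, ha, hb, smul_add]
    | tmul b i =>
      simp [e, α, TensorProduct.piRight_apply, TensorProduct.piRightHom_tmul, TensorProduct.tmul_smul]
  have heβ : ∀ t j, e l (β.lTensor B t) j = ∑ k, v j k • e n t k := by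
    intro t j
    induction t with
    | zero => simp
    | add a b ha hb =>
      simp only [map_add, Pi.add_apply, ha, hb, smul_add, Finset.sum_add_distrib]
    | tmul b i =>
      simp [e, β, TensorProduct.piRight_apply, TensorProduct.piRightHom_tmul, TensorProduct.tmul_sum,
        TensorProduct.tmul_smul]
  let t := (e n).symm fun k => g ⟨x k, hxp k⟩
  have ht : β.lTensor B t = 0 := by
    apply (e l).injective
    funext j
    rw [heβ, map_zero, Pi.zero_apply]
    simp only [t, LinearEquiv.apply_symm_apply, ← map_smul, ← map_sum]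
    have hj : v j ∈ LinearMap.ker π := hv ▸ Submodule.subset_span ⟨j, rfl⟩
    rw [show (∑ k, v j k • (⟨x k, hxp k⟩ : p)) = 0 from Subtype.ext (by
      rw [Submodule.coe_sum]
      simp only [Submodule.coe_smul]
      rw [← hπv, LinearMap.mem_ker.1 hj]), map_zero]
  obtain ⟨m, hm⟩ := (hex t).1 ht
  refine ⟨m, fun y => ?_⟩
  obtain ⟨c, rfl⟩ := hπs y
  have hy : π c = ∑ k, c k • (⟨x k, hxp k⟩ : p) := Subtype.ext (by
    rw [hπv, Submodule.coe_sum]; simp)
  rw [hπv, hy, map_sum, Finset.sum_smul]
  refine Finset.sum_congr rfl fun k _ => ?_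
  rw [map_smul, smul_eq_mul, mul_smul]
  congr 1
  rw [← heα, hm, LinearEquiv.apply_symm_apply]

variable [IsNoetherianRing A] [IsNoetherianRing B]

omit [IsNoetherianRing A] [Module.Flat A B] [Module.Injective A I] [IsNoetherianRing B] in
theorem shortExact_of {X Y Z : Type u} [AddCommGroup X] [Module B X] [AddCommGroup Y] [Module B Y]
    [AddCommGroup Z] [Module B Z] (f : X →ₗ[B] Y) (g : Y →ₗ[B] Z) (hf : Function.Injective f)
    (hg : Function.Surjective g) (h : Function.Exact f g) :
    (ShortComplex.mk (X₁ := ModuleCat.of B X) (X₂ := ModuleCat.of B Y) (X₃ := ModuleCat.of B Z)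
      (ModuleCat.ofHom f) (ModuleCat.ofHom g)
      (ModuleCat.hom_ext h.linearMap_comp_eq_zero)).ShortExact :=
  { exact := (ShortComplex.ShortExact.moduleCat_exact_iff_function_exact _).2 h
    mono_f := (ModuleCat.mono_iff_injective _).2 hf
    epi_g := (ModuleCat.epi_iff_surjective _).2 hg }

omit [IsNoetherianRing A] [Module.Flat A B] [Module.Injective A I] [IsNoetherianRing B] in
theorem ideal_shortExact (J : Ideal B) :
    (ShortComplex.mk (X₁ := ModuleCat.of B J) (X₂ := ModuleCat.of B B) (X₃ := ModuleCat.of B (B ⧸ J))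
      (ModuleCat.ofHom J.subtype) (ModuleCat.ofHom J.mkQ)
      (ModuleCat.hom_ext (LinearMap.exact_subtype_mkQ J).linearMap_comp_eq_zero)).ShortExact :=
  shortExact_of J.subtype J.mkQ Subtype.val_injective J.mkQ_surjective (LinearMap.exact_subtype_mkQ J)

/-- `Ext¹(B/pB, B ⊗ I) = 0`. -/
theorem ext_map (p : Ideal A)
    (x : Abelian.Ext (ModuleCat.of B (B ⧸ p.map (algebraMap A B))) (ModuleCat.of B (B ⊗[A] I)) 1) :
    x = 0 := by
  let J := p.map (algebraMap A B)
  haveI : Projective (ModuleCat.of B B) :=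
    (IsProjective.iff_projective _).1 (inferInstance : Module.Projective B B)
  obtain ⟨y, hy⟩ := Abelian.Ext.contravariant_sequence_exact₃ (ideal_shortExact J) _ x
    (Abelian.Ext.eq_zero_of_projective _) (show 1 + 0 = 1 from rfl)
  obtain ⟨g, rfl⟩ := (Abelian.Ext.mk₀_bijective (ModuleCat.of B J) (ModuleCat.of B (B ⊗[A] I))).2 y
  let gA : p →ₗ[A] B ⊗[A] I :=
    (g.hom.restrictScalars A) ∘ₗ
      ((Algebra.linearMap A B ∘ₗ p.subtype).codRestrict (J.restrictScalars A)
        fun a => Ideal.mem_map_of_mem _ a.2)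
  obtain ⟨m, hm⟩ := exists_smul_eq I p gA
  let e : ModuleCat.of B B ⟶ ModuleCat.of B (B ⊗[A] I) :=
    ModuleCat.ofHom (LinearMap.toSpanSingleton B _ m)
  have he : ModuleCat.ofHom J.subtype ≫ e = g := by
    refine ModuleCat.hom_ext (LinearMap.ext fun z => ?_)
    obtain ⟨z, hz⟩ := z
    show z • m = g.hom ⟨z, hz⟩
    induction hz using Submodule.span_induction with
    | mem z hz =>
      obtain ⟨a, ha, rfl⟩ := hz
      rw [algebraMap_smul]
      exact hm ⟨a, ha⟩
    | zero => rw [zero_smul]; exact (map_zero g.hom).symm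
    | add a b ha hb iha ihb =>
      rw [add_smul, iha, ihb, ← map_add]
      rfl
    | smul c a ha iha =>
      exact (smul_assoc c a m).trans ((congrArg (c • ·) iha).trans (map_smul g.hom c ⟨a, ha⟩).symm)
  rw [← hy, ← he]
  have := (ideal_shortExact J).extClass_comp_assoc (Y := ModuleCat.of B (B ⊗[A] I))
    (Abelian.Ext.mk₀ e) (h := show 1 + 0 = 1 from rfl)
  rw [← Abelian.Ext.mk₀_comp_mk₀]
  exact this

theorem ext_eq_zero
    (h : ∀ q : Ideal B, q.IsPrime → ∃ s ∉ q, ∀ y ∈ q, s * y ∈ (q.comap (algebraMap A B)).map (algebraMap A B))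
    (J : Ideal B) :
    ∀ x : Abelian.Ext (ModuleCat.of B (B ⧸ J)) (ModuleCat.of B (B ⊗[A] I)) 1, x = 0 := by
  induction J using WellFoundedGT.induction with
  | _ J ih =>
  intro x
  by_cases htop : J = ⊤
  · haveI : Subsingleton (B ⧸ J) := Ideal.Quotient.subsingleton_iff.2 htop
    rw [← Abelian.Ext.mk₀_id_comp x, show (𝟙 (ModuleCat.of B (B ⧸ J))) = 0 from
      ModuleCat.hom_ext (LinearMap.ext fun z => Subsingleton.elim _ _), Abelian.Ext.mk₀_zero,
      Abelian.Ext.zero_comp]
  by_cases hJ : J.IsPrime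
  · obtain ⟨s, hs, hsJ⟩ := h J hJ
    let P := (J.comap (algebraMap A B)).map (algebraMap A B)
    have hPJ : P ≤ J := Ideal.map_comap_le
    have hsx : s • x = 0 := by
      let π : (B ⧸ P) →ₗ[B] (B ⧸ J) := Submodule.mapQ P J LinearMap.id hPJ
      have hπ : Function.Surjective π := fun z => by
        obtain ⟨b, rfl⟩ := Submodule.Quotient.mk_surjective _ z
        exact ⟨Submodule.Quotient.mk b, rfl⟩
      have hS := shortExact_of (LinearMap.ker π).subtype π Subtype.val_injective hπ
        (LinearMap.exact_subtype_ker_map π)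
      obtain ⟨y, hy⟩ := Abelian.Ext.contravariant_sequence_exact₃ hS _ x
        (ext_map I (J.comap (algebraMap A B)) _) (show 1 + 0 = 1 from rfl)
      obtain ⟨g, rfl⟩ := (Abelian.Ext.mk₀_bijective _ _).2 y
      rw [← hy, ← Abelian.Ext.comp_smul, ← Abelian.Ext.mk₀_smul]
      have : s • g = 0 := by
        refine ModuleCat.hom_ext (LinearMap.ext fun z => ?_)
        show s • g.hom z = 0
        rw [← map_smul]
        obtain ⟨z, hz⟩ := z
        obtain ⟨b, rfl⟩ := Submodule.Quotient.mk_surjective _ z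
        have hb : b ∈ J := (Submodule.Quotient.mk_eq_zero J).1 hz
        refine (congrArg g.hom (Subtype.ext ?_)).trans (map_zero g.hom)
        show s • Submodule.Quotient.mk b = (0 : B ⧸ P)
        rw [← Submodule.Quotient.mk_smul, Submodule.Quotient.mk_eq_zero]
        exact hsJ b hb
      rw [this, Abelian.Ext.mk₀_zero, Abelian.Ext.comp_zero]
    let f : (B ⧸ J) →ₗ[B] (B ⧸ J) := s • LinearMap.id
    let g : (B ⧸ J) →ₗ[B] B ⧸ (J ⊔ Ideal.span {s}) := Submodule.mapQ J _ LinearMap.id le_sup_left
    have hf : Function.Injective f := (injective_iff_map_eq_zero _).2 fun z hz => by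
      obtain ⟨b, rfl⟩ := Submodule.Quotient.mk_surjective _ z
      change Submodule.Quotient.mk (s • b) = 0 at hz
      rw [Submodule.Quotient.mk_eq_zero] at hz ⊢
      exact (hJ.mem_or_mem hz).resolve_left hs
    have hg : Function.Surjective g := fun z => by
      obtain ⟨b, rfl⟩ := Submodule.Quotient.mk_surjective _ z
      exact ⟨Submodule.Quotient.mk b, rfl⟩
    have hfg : Function.Exact f g := fun z => by
      obtain ⟨b, rfl⟩ := Submodule.Quotient.mk_surjective _ z
      constructor
      · intro hb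
        obtain ⟨j, hj, c, hc, hjc⟩ := Submodule.mem_sup.1 ((Submodule.Quotient.mk_eq_zero _).1 hb)
        obtain ⟨d, rfl⟩ := Ideal.mem_span_singleton'.1 hc
        refine ⟨Submodule.Quotient.mk d, ?_⟩
        show Submodule.Quotient.mk (s • d) = Submodule.Quotient.mk b
        rw [Submodule.Quotient.eq, smul_eq_mul, mul_comm, show d * s - b = -j by
          rw [← show j + d * s = b from hjc]; ring]
        exact neg_mem hj
      · rintro ⟨w, hw⟩
        obtain ⟨d, rfl⟩ := Submodule.Quotient.mk_surjective _ w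
        rw [← hw]
        show Submodule.Quotient.mk (s • d) = (0 : B ⧸ (J ⊔ Ideal.span {s}))
        rw [Submodule.Quotient.mk_eq_zero]
        exact Submodule.mem_sup_right (Ideal.mem_span_singleton'.2 ⟨d, mul_comm _ _⟩)
    have h0 : (Abelian.Ext.mk₀ (ModuleCat.ofHom f)).comp x (zero_add 1) = 0 := by
      rw [show ModuleCat.ofHom f = s • 𝟙 (ModuleCat.of B (B ⧸ J)) from rfl, Abelian.Ext.mk₀_smul,
        Abelian.Ext.smul_comp, Abelian.Ext.mk₀_id_comp, hsx]
    obtain ⟨y, hy⟩ := Abelian.Ext.contravariant_sequence_exact₂ (shortExact_of f g hf hg hfg) _ x h0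
    have hlt : J < J ⊔ Ideal.span {s} :=
      lt_of_le_of_ne le_sup_left fun h' =>
        hs (h' ▸ Submodule.mem_sup_right (Ideal.mem_span_singleton_self s))
    rw [← hy, ih _ hlt y, Abelian.Ext.comp_zero]
  · obtain ⟨a, ha, b, hb, hab⟩ : ∃ a, a ∉ J ∧ ∃ b, b ∉ J ∧ a * b ∈ J := by
      by_contra hne
      push Not at hne
      exact hJ ⟨htop, fun {a b} hab => by
        by_contra hc
        push Not at hc
        exact hne a hc.1 b hc.2 hab⟩
    let K : Ideal B := Submodule.comap (LinearMap.mulLeft B a) J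
    have hK : ∀ z, z ∈ K ↔ a * z ∈ J := fun z => Iff.rfl
    let f : (B ⧸ K) →ₗ[B] (B ⧸ J) := Submodule.mapQ K J (LinearMap.mulLeft B a) le_rfl
    let g : (B ⧸ J) →ₗ[B] B ⧸ (J ⊔ Ideal.span {a}) := Submodule.mapQ J _ LinearMap.id le_sup_left
    have hf : Function.Injective f := (injective_iff_map_eq_zero _).2 fun z hz => by
      obtain ⟨c, rfl⟩ := Submodule.Quotient.mk_surjective _ z
      change Submodule.Quotient.mk (a * c) = 0 at hz
      rw [Submodule.Quotient.mk_eq_zero] at hz ⊢
      exact hz
    have hg : Function.Surjective g := fun z => by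
      obtain ⟨c, rfl⟩ := Submodule.Quotient.mk_surjective _ z
      exact ⟨Submodule.Quotient.mk c, rfl⟩
    have hfg : Function.Exact f g := fun z => by
      obtain ⟨c, rfl⟩ := Submodule.Quotient.mk_surjective _ z
      constructor
      · intro hc
        obtain ⟨j, hj, w, hw, hjw⟩ := Submodule.mem_sup.1 ((Submodule.Quotient.mk_eq_zero _).1 hc)
        obtain ⟨d, rfl⟩ := Ideal.mem_span_singleton'.1 hw
        refine ⟨Submodule.Quotient.mk d, ?_⟩
        show Submodule.Quotient.mk (a * d) = Submodule.Quotient.mk c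
        rw [Submodule.Quotient.eq, mul_comm, show d * a - c = -j by
          rw [← show j + d * a = c from hjw]; ring]
        exact neg_mem hj
      · rintro ⟨w, hw⟩
        obtain ⟨d, rfl⟩ := Submodule.Quotient.mk_surjective _ w
        rw [← hw]
        show Submodule.Quotient.mk (a * d) = (0 : B ⧸ (J ⊔ Ideal.span {a}))
        rw [Submodule.Quotient.mk_eq_zero]
        exact Submodule.mem_sup_right (Ideal.mem_span_singleton'.2 ⟨d, mul_comm _ _⟩)
    have hJK : J < K := lt_of_le_of_ne (fun z hz => (hK z).2 (J.mul_mem_left a hz))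
      fun h' => hb (h'.symm ▸ (hK b).2 hab)
    have hlt : J < J ⊔ Ideal.span {a} :=
      lt_of_le_of_ne le_sup_left fun h' =>
        ha (h' ▸ Submodule.mem_sup_right (Ideal.mem_span_singleton_self a))
    obtain ⟨y, hy⟩ := Abelian.Ext.contravariant_sequence_exact₂ (shortExact_of f g hf hg hfg) _ x
      (ih K hJK _)
    rw [← hy, ih _ hlt y, Abelian.Ext.comp_zero]

theorem injective_tensor
    (h : ∀ q : Ideal B, q.IsPrime → ∃ s ∉ q, ∀ y ∈ q, s * y ∈ (q.comap (algebraMap A B)).map (algebraMap A B)) :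
    Module.Injective B (B ⊗[A] I) := by
  refine Module.Baer.injective fun J g => ?_
  have hS := ideal_shortExact J
  obtain ⟨y, hy⟩ := Abelian.Ext.contravariant_sequence_exact₁ hS
    (ModuleCat.of B (B ⊗[A] I)) (Abelian.Ext.mk₀ (ModuleCat.ofHom g)) (show 1 + 0 = 1 from rfl)
    (ext_eq_zero I h J _)
  obtain ⟨e, rfl⟩ := (Abelian.Ext.mk₀_bijective _ _).2 y
  rw [Abelian.Ext.mk₀_comp_mk₀] at hy
  have he := (Abelian.Ext.mk₀_bijective _ _).1 hy
  exact ⟨e.hom, fun z hz => congrArg (fun φ => φ.hom ⟨z, hz⟩) he⟩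

end H1InjBC
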